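import Cfsg.Agent.H7.Pr.CvG24T

set_option autoImplicit false
set_option linter.unusedVariables false
set_option maxRecDepth 100000
set_option Elab.async false

namespace CfsgH7.CvG24

open Cfsg

theorem w2808 : PT.chk f W 2808 312 = true := by decide +kernel
theorem w3120 : PT.chk f W 3120 312 = true := by decide +kernel
theorem w3432 : PT.chk f W 3432 312 = true := by decide +kernel
theorem w3744 : PT.chk f W 3744 312 = true := by decide +kernel
theorem w4056 : PT.chk f W 4056 312 = true := by decide +kernel
theorem w4368 : PT.chk f W 4368 312 = true := by decide +kernel
theorem w4680 : PT.chk f W 4680 312 = true := by decide +kernel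
theorem w4992 : PT.chk f W 4992 312 = true := by decide +kernel
theorem w5304 : PT.chk f W 5304 312 = true := by decide +kernel

end CfsgH7.CvG24
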