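import Cfsg.Agent.H7.Pr.CvG24T

set_option autoImplicit false
set_option linter.unusedVariables false
set_option maxRecDepth 100000
set_option Elab.async false

namespace CfsgH7.CvG24

open Cfsg

theorem w5616 : PT.chk f W 5616 312 = true := by decide +kernel
theorem w5928 : PT.chk f W 5928 312 = true := by decide +kernel
theorem w6240 : PT.chk f W 6240 312 = true := by decide +kernel
theorem w6552 : PT.chk f W 6552 312 = true := by decide +kernel
theorem w6864 : PT.chk f W 6864 312 = true := by decide +kernel
theorem w7176 : PT.chk f W 7176 312 = true := by decide +kernel
theorem w7488 : PT.chk f W 7488 312 = true := by decide +kernel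
theorem w7800 : PT.chk f W 7800 264 = true := by decide +kernel

end CfsgH7.CvG24
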