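import Cfsg.Agent.H7.Pr.CvG240
import Cfsg.Agent.H7.Pr.CvG241
import Cfsg.Agent.H7.Pr.CvG242

set_option autoImplicit false
set_option linter.unusedVariables false
set_option maxRecDepth 100000
set_option Elab.async false

namespace CfsgH7.CvG24

open Cfsg

theorem v312 : PT.Pts f W 312 := PT.Pts.zero.step w0 rfl
theorem v624 : PT.Pts f W 624 := v312.step w312 rfl
theorem v936 : PT.Pts f W 936 := v624.step w624 rfl
theorem v1248 : PT.Pts f W 1248 := v936.step w936 rfl
theorem v1560 : PT.Pts f W 1560 := v1248.step w1248 rfl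
theorem v1872 : PT.Pts f W 1872 := v1560.step w1560 rfl
theorem v2184 : PT.Pts f W 2184 := v1872.step w1872 rfl
theorem v2496 : PT.Pts f W 2496 := v2184.step w2184 rfl
theorem v2808 : PT.Pts f W 2808 := v2496.step w2496 rfl
theorem v3120 : PT.Pts f W 3120 := v2808.step w2808 rfl
theorem v3432 : PT.Pts f W 3432 := v3120.step w3120 rfl
theorem v3744 : PT.Pts f W 3744 := v3432.step w3432 rfl
theorem v4056 : PT.Pts f W 4056 := v3744.step w3744 rfl
theorem v4368 : PT.Pts f W 4368 := v4056.step w4056 rfl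
theorem v4680 : PT.Pts f W 4680 := v4368.step w4368 rfl
theorem v4992 : PT.Pts f W 4992 := v4680.step w4680 rfl
theorem v5304 : PT.Pts f W 5304 := v4992.step w4992 rfl
theorem v5616 : PT.Pts f W 5616 := v5304.step w5304 rfl
theorem v5928 : PT.Pts f W 5928 := v5616.step w5616 rfl
theorem v6240 : PT.Pts f W 6240 := v5928.step w5928 rfl
theorem v6552 : PT.Pts f W 6552 := v6240.step w6240 rfl
theorem v6864 : PT.Pts f W 6864 := v6552.step w6552 rfl
theorem v7176 : PT.Pts f W 7176 := v6864.step w6864 rfl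
theorem v7488 : PT.Pts f W 7488 := v7176.step w7176 rfl
theorem v7800 : PT.Pts f W 7800 := v7488.step w7488 rfl
theorem v8064 : PT.Pts f W 8064 := v7800.step w7800 rfl

end CfsgH7.CvG24
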