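import Cfsg.Agent.H7.Pr.CvG24T

set_option autoImplicit false
set_option linter.unusedVariables false
set_option maxRecDepth 100000
set_option Elab.async false

namespace CfsgH7.CvG24

open Cfsg

theorem w0 : PT.chk f W 0 312 = true := by decide +kernel
theorem w312 : PT.chk f W 312 312 = true := by decide +kernel
theorem w624 : PT.chk f W 624 312 = true := by decide +kernel
theorem w936 : PT.chk f W 936 312 = true := by decide +kernel
theorem w1248 : PT.chk f W 1248 312 = true := by decide +kernel
theorem w1560 : PT.chk f W 1560 312 = true := by decide +kernel
theorem w1872 : PT.chk f W 1872 312 = true := by decide +kernel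
theorem w2184 : PT.chk f W 2184 312 = true := by decide +kernel
theorem w2496 : PT.chk f W 2496 312 = true := by decide +kernel

end CfsgH7.CvG24
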