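import Cfsg.Agent.H7.Kl

set_option autoImplicit false
set_option linter.unusedVariables false
set_option maxRecDepth 100000
set_option Elab.async false

namespace CfsgH7.CvL32

open Cfsg

noncomputable def p0 : ℕ := nat_lit 0x300a468ca33848560882208c74ac6728ce642846114203a4e519001320c401c43084210986200000
noncomputable def p1 : ℕ := nat_lit 0x7214b5b52b7a56a5310a6292879dad6ad097198c535ee2bde95b1cf239c843d8d1956f4b9ac1114e
noncomputable def Pf (i : ℕ) : ℕ := (@Bool.rec (fun _ => ℕ) p0 p1 (Nat.ble (nat_lit 1) i))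
noncomputable def f (x p : ℕ) : ℕ := ite' (nat_lit 8 ≤ₙ x) p
  (Pf (p >>ₙ nat_lit 3) >>ₙ (nat_lit 5 *ₙ ((p &ₙ nat_lit 7) *ₙ nat_lit 8 +ₙ x)) &ₙ nat_lit 31)
def W : List (List ℕ × List ℕ) :=
  [([0x1002], []),
   ([0x3], []),
   ([0x3202], []),
   ([0x101002], []),
   ([0x323202], []),
   ([0x312203122005], []),
   ([0x3], []),
   ([0x5402], []),
   ([0x444402], [0x701]),
   ([0x34034034034006], [0x701]),
   ([0x101002], []),
   ([0x323202], []),
   ([0x545402], []),
   ([0x40405040405006], []),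
   ([0x3], []),
   ([0x312203122005], []),
   ([0x5501, 0x1], [0x1, 0x5501, 0x601]),
   ([0x701], [0x601, 0x601]),
   ([0x701, 0x701], []),
   ([0x701, 0x1], [0x1, 0x701]),
   ([0x701, 0x101], [0x101, 0x701]),
   ([0x701, 0x201], [0x201, 0x701]),
   ([0x701, 0x301], [0x301, 0x701]),
   ([0x701, 0x401], [0x401, 0x701]),
   ([0x701, 0x501], [0x501, 0x701]),
   ([0x0, 0x0], [0x0, 0x0, 0xf01]),
   ([0xf01], [0xf01]),
   ([0xf01], []),
   ([0xf01, 0x1], [0x1, 0xf01]),
   ([0xf01, 0x101], [0x101, 0xf01]),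
   ([0xf01, 0x201], [0x201, 0xf01]),
   ([0xf01, 0x301], [0x301, 0xf01]),
   ([0xf01, 0x401], [0x401, 0xf01]),
   ([0xf01, 0x501], [0x501, 0xf01]),
   ([0x0, 0x0], [0x0, 0x0, 0xf01]),
   ([0xf01], [0xf01]),
   ([0xf01], []),
   ([0xf01, 0x1], [0x1, 0xf01]),
   ([0xf01, 0x101], [0x101, 0xf01]),
   ([0xf01, 0x201], [0x201, 0xf01]),
   ([0xf01, 0x301], [0x301, 0xf01]),
   ([0xf01, 0x401], [0x401, 0xf01]),
   ([0xf01, 0x501], [0x501, 0xf01])]
theorem f0 : PT.isP f 16 0 = true := by decide +kernel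
theorem f1 : PT.isP f 16 1 = true := by decide +kernel
theorem f2 : PT.isP f 16 2 = true := by decide +kernel
theorem f3 : PT.isP f 16 3 = true := by decide +kernel
theorem f4 : PT.isP f 16 4 = true := by decide +kernel
theorem f5 : PT.isP f 16 5 = true := by decide +kernel
theorem f6 : PT.isP f 16 6 = true := by decide +kernel
theorem f7 : PT.isP f 16 7 = true := by decide +kernel
theorem fr : all (fun i => PT.isP f 16 (8 + i)) 8 = true := by decide +kernel
theorem hf : ∀ x < 16, PT.isP f 16 x = true := fun x hx => by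
  by_cases h : x < 8
  · interval_cases x
    exacts [f0, f1, f2, f3, f4, f5, f6, f7]
  · have := (all_iff _ _).mp fr (x - 8) (by omega)
    rwa [show 8 + (x - 8) = x by omega] at this
def E : List (ℕ × ℕ × ℕ × ℕ) := [(0x1002, 0, 0, 0), (0x3, 0, 0, 0), (0x3202, 0, 0, 0), (0x101002, 0, 0, 0), (0x323202, 0, 0, 0), (0x312203122005, 0, 0, 0), (0x3, 0, 0, 0), (0x5402, 0, 0, 0), (0x444402, 1, 0, 0), (0x34034034034006, 1, 0, 0), (0x101002, 0, 0, 0), (0x323202, 0, 0, 0), (0x545402, 0, 0, 0), (0x40405040405006, 0, 0, 0), (0x3, 0, 0, 0), (0x312203122005, 0, 0, 0)]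
theorem w0 : PT.chk f W 0 16 = true := by decide +kernel
theorem v16 : PT.Pts f W 16 := PT.Pts.zero.step w0 rfl

end CfsgH7.CvL32
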