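import Cfsg.Agent.H7.Pr.CvO73T

set_option autoImplicit false
set_option linter.unusedVariables false
set_option maxRecDepth 100000
set_option Elab.async false

namespace CfsgH7.CvO73

open Cfsg

theorem w1738 : PT.chk f W 1738 158 = true := by decide +kernel
theorem w1896 : PT.chk f W 1896 158 = true := by decide +kernel
theorem w2054 : PT.chk f W 2054 158 = true := by decide +kernel
theorem w2212 : PT.chk f W 2212 158 = true := by decide +kernel
theorem w2370 : PT.chk f W 2370 158 = true := by decide +kernel
theorem w2528 : PT.chk f W 2528 158 = true := by decide +kernel
theorem w2686 : PT.chk f W 2686 158 = true := by decide +kernel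
theorem w2844 : PT.chk f W 2844 158 = true := by decide +kernel
theorem w3002 : PT.chk f W 3002 158 = true := by decide +kernel
theorem w3160 : PT.chk f W 3160 134 = true := by decide +kernel

end CfsgH7.CvO73
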