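import Cfsg.Agent.H7.Pr.CvO730
import Cfsg.Agent.H7.Pr.CvO731

set_option autoImplicit false
set_option linter.unusedVariables false
set_option maxRecDepth 100000
set_option Elab.async false

namespace CfsgH7.CvO73

open Cfsg

theorem v158 : PT.Pts f W 158 := PT.Pts.zero.step w0 rfl
theorem v316 : PT.Pts f W 316 := v158.step w158 rfl
theorem v474 : PT.Pts f W 474 := v316.step w316 rfl
theorem v632 : PT.Pts f W 632 := v474.step w474 rfl
theorem v790 : PT.Pts f W 790 := v632.step w632 rfl
theorem v948 : PT.Pts f W 948 := v790.step w790 rfl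
theorem v1106 : PT.Pts f W 1106 := v948.step w948 rfl
theorem v1264 : PT.Pts f W 1264 := v1106.step w1106 rfl
theorem v1422 : PT.Pts f W 1422 := v1264.step w1264 rfl
theorem v1580 : PT.Pts f W 1580 := v1422.step w1422 rfl
theorem v1738 : PT.Pts f W 1738 := v1580.step w1580 rfl
theorem v1896 : PT.Pts f W 1896 := v1738.step w1738 rfl
theorem v2054 : PT.Pts f W 2054 := v1896.step w1896 rfl
theorem v2212 : PT.Pts f W 2212 := v2054.step w2054 rfl
theorem v2370 : PT.Pts f W 2370 := v2212.step w2212 rfl
theorem v2528 : PT.Pts f W 2528 := v2370.step w2370 rfl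
theorem v2686 : PT.Pts f W 2686 := v2528.step w2528 rfl
theorem v2844 : PT.Pts f W 2844 := v2686.step w2686 rfl
theorem v3002 : PT.Pts f W 3002 := v2844.step w2844 rfl
theorem v3160 : PT.Pts f W 3160 := v3002.step w3002 rfl
theorem v3294 : PT.Pts f W 3294 := v3160.step w3160 rfl

end CfsgH7.CvO73
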