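import Cfsg.Agent.H7.Pr.CvO73T

set_option autoImplicit false
set_option linter.unusedVariables false
set_option maxRecDepth 100000
set_option Elab.async false

namespace CfsgH7.CvO73

open Cfsg

theorem w0 : PT.chk f W 0 158 = true := by decide +kernel
theorem w158 : PT.chk f W 158 158 = true := by decide +kernel
theorem w316 : PT.chk f W 316 158 = true := by decide +kernel
theorem w474 : PT.chk f W 474 158 = true := by decide +kernel
theorem w632 : PT.chk f W 632 158 = true := by decide +kernel
theorem w790 : PT.chk f W 790 158 = true := by decide +kernel
theorem w948 : PT.chk f W 948 158 = true := by decide +kernel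
theorem w1106 : PT.chk f W 1106 158 = true := by decide +kernel
theorem w1264 : PT.chk f W 1264 158 = true := by decide +kernel
theorem w1422 : PT.chk f W 1422 158 = true := by decide +kernel
theorem w1580 : PT.chk f W 1580 158 = true := by decide +kernel

end CfsgH7.CvO73
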