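import Cfsg.Agent.H7.Pr.CvU62T

set_option autoImplicit false
set_option linter.unusedVariables false
set_option maxRecDepth 100000
set_option Elab.async false

namespace CfsgH7.CvU62

open Cfsg

theorem w1740 : PT.chk f W 1740 174 = true := by decide +kernel
theorem w1914 : PT.chk f W 1914 174 = true := by decide +kernel
theorem w2088 : PT.chk f W 2088 174 = true := by decide +kernel
theorem w2262 : PT.chk f W 2262 174 = true := by decide +kernel
theorem w2436 : PT.chk f W 2436 174 = true := by decide +kernel
theorem w2610 : PT.chk f W 2610 174 = true := by decide +kernel
theorem w2784 : PT.chk f W 2784 174 = true := by decide +kernel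
theorem w2958 : PT.chk f W 2958 174 = true := by decide +kernel
theorem w3132 : PT.chk f W 3132 174 = true := by decide +kernel
theorem w3306 : PT.chk f W 3306 174 = true := by decide +kernel

end CfsgH7.CvU62
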