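import Cfsg.Agent.H7.Pr.CvU62T

set_option autoImplicit false
set_option linter.unusedVariables false
set_option maxRecDepth 100000
set_option Elab.async false

namespace CfsgH7.CvU62

open Cfsg

theorem w3480 : PT.chk f W 3480 174 = true := by decide +kernel
theorem w3654 : PT.chk f W 3654 174 = true := by decide +kernel
theorem w3828 : PT.chk f W 3828 174 = true := by decide +kernel
theorem w4002 : PT.chk f W 4002 174 = true := by decide +kernel
theorem w4176 : PT.chk f W 4176 174 = true := by decide +kernel
theorem w4350 : PT.chk f W 4350 174 = true := by decide +kernel
theorem w4524 : PT.chk f W 4524 174 = true := by decide +kernel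
theorem w4698 : PT.chk f W 4698 6 = true := by decide +kernel

end CfsgH7.CvU62
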