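import Cfsg.Agent.H7.Pr.CvU620
import Cfsg.Agent.H7.Pr.CvU621
import Cfsg.Agent.H7.Pr.CvU622

set_option autoImplicit false
set_option linter.unusedVariables false
set_option maxRecDepth 100000
set_option Elab.async false

namespace CfsgH7.CvU62

open Cfsg

theorem v174 : PT.Pts f W 174 := PT.Pts.zero.step w0 rfl
theorem v348 : PT.Pts f W 348 := v174.step w174 rfl
theorem v522 : PT.Pts f W 522 := v348.step w348 rfl
theorem v696 : PT.Pts f W 696 := v522.step w522 rfl
theorem v870 : PT.Pts f W 870 := v696.step w696 rfl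
theorem v1044 : PT.Pts f W 1044 := v870.step w870 rfl
theorem v1218 : PT.Pts f W 1218 := v1044.step w1044 rfl
theorem v1392 : PT.Pts f W 1392 := v1218.step w1218 rfl
theorem v1566 : PT.Pts f W 1566 := v1392.step w1392 rfl
theorem v1740 : PT.Pts f W 1740 := v1566.step w1566 rfl
theorem v1914 : PT.Pts f W 1914 := v1740.step w1740 rfl
theorem v2088 : PT.Pts f W 2088 := v1914.step w1914 rfl
theorem v2262 : PT.Pts f W 2262 := v2088.step w2088 rfl
theorem v2436 : PT.Pts f W 2436 := v2262.step w2262 rfl
theorem v2610 : PT.Pts f W 2610 := v2436.step w2436 rfl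
theorem v2784 : PT.Pts f W 2784 := v2610.step w2610 rfl
theorem v2958 : PT.Pts f W 2958 := v2784.step w2784 rfl
theorem v3132 : PT.Pts f W 3132 := v2958.step w2958 rfl
theorem v3306 : PT.Pts f W 3306 := v3132.step w3132 rfl
theorem v3480 : PT.Pts f W 3480 := v3306.step w3306 rfl
theorem v3654 : PT.Pts f W 3654 := v3480.step w3480 rfl
theorem v3828 : PT.Pts f W 3828 := v3654.step w3654 rfl
theorem v4002 : PT.Pts f W 4002 := v3828.step w3828 rfl
theorem v4176 : PT.Pts f W 4176 := v4002.step w4002 rfl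
theorem v4350 : PT.Pts f W 4350 := v4176.step w4176 rfl
theorem v4524 : PT.Pts f W 4524 := v4350.step w4350 rfl
theorem v4698 : PT.Pts f W 4698 := v4524.step w4524 rfl
theorem v4704 : PT.Pts f W 4704 := v4698.step w4698 rfl

end CfsgH7.CvU62
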