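import Cfsg.Agent.H7.Pr.CvU62T

set_option autoImplicit false
set_option linter.unusedVariables false
set_option maxRecDepth 100000
set_option Elab.async false

namespace CfsgH7.CvU62

open Cfsg

theorem w0 : PT.chk f W 0 174 = true := by decide +kernel
theorem w174 : PT.chk f W 174 174 = true := by decide +kernel
theorem w348 : PT.chk f W 348 174 = true := by decide +kernel
theorem w522 : PT.chk f W 522 174 = true := by decide +kernel
theorem w696 : PT.chk f W 696 174 = true := by decide +kernel
theorem w870 : PT.chk f W 870 174 = true := by decide +kernel
theorem w1044 : PT.chk f W 1044 174 = true := by decide +kernel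
theorem w1218 : PT.chk f W 1218 174 = true := by decide +kernel
theorem w1392 : PT.chk f W 1392 174 = true := by decide +kernel
theorem w1566 : PT.chk f W 1566 174 = true := by decide +kernel

end CfsgH7.CvU62
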