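import Cfsg.Agent.H7.Kl

set_option autoImplicit false
set_option linter.unusedVariables false
set_option maxRecDepth 100000
set_option Elab.async false

namespace CfsgH7.PrL32

open Cfsg

universe u

def R0 : List ℕ := [0x1002, 3]
theorem p0 : Pres.{u} R0 2 3 := pres_cyc (by norm_num)
namespace K1
noncomputable def l0 : ℕ := nat_lit 0x4100020100001c000020002000000180000300010100001600005000100000014000040000000000000004000020100001a00003000301000011000040001010000100000400040200001500006000000000000000030002010000120000500020000000e000000000000000130000600000000000f0000500000000000000011000304000017000060003020000190000500010100000c0000200010000000a00001000000000000000100002010000080000100030100001b000060001010000060000100040200000b0000300000000000000002000201000004000000003020000070000200000000000900003000000000005000020000000000000000000000000000d00004000000000003000010000000000020000000000000000100000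
noncomputable def Lf (i : ℕ) : ℕ := l0
noncomputable def E (c x : ℕ) : ℕ :=
  Lf (c /ₙ nat_lit 16) >>ₙ (nat_lit 68 *ₙ (c %ₙ nat_lit 16 *ₙ nat_lit 5 +ₙ x)) &ₙ nat_lit 0xfffffffffffffffff
noncomputable def RT (i : ℕ) : ℕ := (@Bool.rec (fun _ => ℕ) (@Bool.rec (fun _ => ℕ) (nat_lit 0x101002) (nat_lit 0x323202) (Nat.ble (nat_lit 1) i)) (@Bool.rec (fun _ => ℕ) (nat_lit 0x312203122005) (nat_lit 0x3) (Nat.ble (nat_lit 3) i)) (Nat.ble (nat_lit 2) i))
noncomputable def T : LT.Tab := ⟨E, RT, 4, 7, 2, 0, 512, 1⟩
theorem c0 : T.rowsOk true 0 7 = true := by decide +kernel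
theorem cert : T.Cert 2 := ⟨by decide +kernel, (LT.Tab.Rows.zero.step c0 rfl)⟩
theorem kills : T.Kills [] := ⟨[], [], by decide +kernel⟩
end K1
noncomputable def R1 : List ℕ := R0 ++ K1.T.rels
theorem p1 : Pres.{u} R1 4 21 := Pres.step (T := K1.T) p0 K1.cert
theorem d1 {G : Type u} [Group G] [Finite G] {x : ℕ → G} (hr : ∀ r ∈ R1, ev8 x r = 1) (hc : Nat.card (cl x 4) = 21) : (∀ r ∈ R0, ev8 x r = 1) ∧ K1.T.Rel x ∧ Nat.card (cl x 2) = 3 := K1.cert.down p0 hr hc
namespace K2
noncomputable def l0 : ℕ := nat_lit 0x1000000100060100002d000050000000004040000bc000140000000040100002c0000500200c0020040000a4000180000000030100002600004006004001c0400009c0001400000000000000000000330000000014040000900001000003000201000021000040060040010040000a80001c0000000040000001e0000300200c000c04000080000180180100080000001f0000600000000000000000000088000000005010000300000700000c0014000000b80001c0000000040100001a000020000000020080000ac0001c008030003010000280000700200c000c00000070000100000000000000000000012000004001404000088000180000000010100002300006000000001004000058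00004008030008020000170000200600400200c00006c00014000000000000000250000700000000000000000000044000000005010000100000200000c000404000044000080000000000000001d0000600200c001000000050000040000000030100000e00002000000000c000000300000400000000000000000000100000040014040000480000c0000000060500000f00003006004001004000060000100000000000000001900005000000000c04000028000040000000070200000d0000300000000000000000000010000000005010000060000000000c00040400001c000000180100020500001300003000000000000000054000100000000000000000b00003000000000000000024000080000000000000000000000000004001404000020000040000000000000000500001000000000000000010000000000000000000000300000000000000000000008000000000000000000000100000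
noncomputable def Lf (i : ℕ) : ℕ := l0
noncomputable def E (c x : ℕ) : ℕ :=
  Lf (c /ₙ nat_lit 16) >>ₙ (nat_lit 90 *ₙ (c %ₙ nat_lit 16 *ₙ nat_lit 7 +ₙ x)) &ₙ nat_lit 0x3ffffffffffffffffffffff
noncomputable def RT (i : ℕ) : ℕ := (@Bool.rec (fun _ => ℕ) (@Bool.rec (fun _ => ℕ) (@Bool.rec (fun _ => ℕ) (nat_lit 0x444402) (nat_lit 0x34034034034006) (Nat.ble (nat_lit 1) i)) (@Bool.rec (fun _ => ℕ) (nat_lit 0x101002) (nat_lit 0x323202) (Nat.ble (nat_lit 3) i)) (Nat.ble (nat_lit 2) i)) (@Bool.rec (fun _ => ℕ) (@Bool.rec (fun _ => ℕ) (nat_lit 0x545402) (nat_lit 0x40405040405006) (Nat.ble (nat_lit 5) i)) (@Bool.rec (fun _ => ℕ) (nat_lit 0x3) (nat_lit 0x312203122005) (Nat.ble (nat_lit 7) i)) (Nat.ble (nat_lit 6) i)) (Nat.ble (nat_lit 4) i))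
noncomputable def T : LT.Tab := ⟨E, RT, 8, 8, 4, 2, 2048, 4⟩
theorem c0 : T.rowsOk true 0 8 = true := by decide +kernel
theorem cert : T.Cert 5 := ⟨by decide +kernel, (LT.Tab.Rows.zero.step c0 rfl)⟩
theorem kills : T.Kills [2] :=
  ⟨[(2, 5, 0x2), (7, 5, 0x1803)],
   [([1, 0, 0, 0], 0x803)], by decide +kernel⟩
end K2
noncomputable def R2 : List ℕ := R1 ++ K2.T.rels
theorem p2 : Pres.{u} R2 6 168 := Pres.step (T := K2.T) p1 K2.cert
theorem d2 {G : Type u} [Group G] [Finite G] {x : ℕ → G} (hr : ∀ r ∈ R2, ev8 x r = 1) (hc : Nat.card (cl x 6) = 168) : (∀ r ∈ R1, ev8 x r = 1) ∧ K2.T.Rel x ∧ Nat.card (cl x 4) = 21 := K2.cert.down p1 hr hc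
theorem f2 {G : Type u} [Group G] {x : ℕ → G} (hr : ∀ r ∈ R2, ev8 x r = 1) : commutator (cl x 6) = ⊤ :=
  perfect_of hr [[(0x101002, 2), (0x3, -1), (0x323202, 4), (0x312203122005, -2), (0x545402, -2), (0x34034034034006, -1), (0x40405040405006, 2)], [(0x101002, -1), (0x3, 1), (0x323202, -4), (0x312203122005, 2), (0x545402, 2), (0x34034034034006, 1), (0x40405040405006, -2)], [(0x101002, -1), (0x323202, -1), (0x312203122005, 1)], [(0x101002, 1), (0x323202, 2), (0x312203122005, -1)], [(0x3, -1), (0x545402, -1), (0x40405040405006, 1)], [(0x3, 1), (0x545402, 2), (0x40405040405006, -1)]] (by decide +kernel)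
theorem k2 {G : Type u} [Group G] [Finite G] {x : ℕ → G} (hr : ∀ r ∈ R2, ev8 x r = 1) (hc : Nat.card (cl x 6) = 168) : Kl (cl x 6) 168 2 2 :=
  Kl.red (xp_cauchy (p := 3) (m := 56) (by norm_num) hc) (Kl.red (xp_cauchy (p := 7) (m := 24) (by norm_num) hc) (K2.cert.klc K2.kills (d2 hr hc).2.1 (d2 hr hc).2.2 hc _ 2 2 2 (by decide +kernel)))

end CfsgH7.PrL32
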